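import Mathlib
import Cfsg.Agent.Lib.Helper9.Stem3

set_option autoImplicit false
set_option maxRecDepth 1000000

/-! A presentation of the Tits group on the standard generators `a`, `b` of orders 2 and 3 and
`v = a b` of order 13, and a presentation of a central extension: the relators `a ^ 2`, `b ^ 3`,
`[a, b] ^ 5` and `((a b) ^ 4 a b⁻¹) ^ 6` become central of order dividing 480. -/

namespace Cfsg.Agent.Helper9.TitsM

open Cfsg Cfsg.Agent.Helper9 Cfsg.Agent.Helper9.Stem3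

/-- The exact relator: the relator `[a, b a b] ^ 4`, modified by central elements so that the
exponent sums of `a` and `b` are `-4` and `-3`. -/
def X : FG :=
  b⁻¹ * a⁻¹ * b⁻¹ * a⁻¹ * b⁻¹ * b⁻¹ * a⁻¹ * b * a⁻¹ * b⁻¹ * a⁻¹ * b⁻¹ * a⁻¹ * b * a⁻¹ * b * a⁻¹ *
  b⁻¹ * a⁻¹ * b⁻¹ * a⁻¹ * b * a * b * a * b⁻¹ * a * b⁻¹ * a * b * a * b * a

/-- The relator `[a, b] ^ 5`. -/
def R0 : FG :=
  b⁻¹ * a * b * a * b⁻¹ * a * b * a * b⁻¹ * a * b * a * b⁻¹ * a * b * a * b⁻¹ * a * b * a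

/-- The relator `((a b) ^ 4 a b⁻¹) ^ 6`. -/
def R48 : FG :=
  b⁻¹ * a * b⁻¹ * a * b⁻¹ * a * b⁻¹ * a * b * a * b⁻¹ * a * b⁻¹ * a * b⁻¹ * a * b⁻¹ * a * b * a *
  b⁻¹ * a * b⁻¹ * a * b⁻¹ * a * b⁻¹ * a * b * a * b⁻¹ * a * b⁻¹ * a * b⁻¹ * a * b⁻¹ * a * b * a *
  b⁻¹ * a * b⁻¹ * a * b⁻¹ * a * b⁻¹ * a * b * a * b⁻¹ * a * b⁻¹ * a * b⁻¹ * a * b⁻¹ * a * b * a

/-- The data of the two presentations. -/
def pres : Pres where
  X := X
  Rl := [a ^ 2, b ^ 3, R0, R48]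
  q := 480

theorem es0_X : (es0 pres.X).toAdd = -4 := by decide +kernel

theorem es1_X : (es1 pres.X).toAdd = -3 := by decide +kernel

theorem es2_X : (es2 pres.X).toAdd = 0 := by decide +kernel

theorem a2_mem : a ^ 2 ∈ pres.Rl := by
  simp [pres]

theorem b3_mem : b ^ 3 ∈ pres.Rl := by
  simp [pres]

theorem R0_mem : R0 ∈ pres.Rl := by
  simp [pres]

theorem R48_mem : R48 ∈ pres.Rl := by
  simp [pres]

theorem Rl_cases {R : FG} (h : R ∈ pres.Rl) : R = a ^ 2 ∨ R = b ^ 3 ∨ R = R0 ∨ R = R48 := by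
  simpa [pres] using h

end Cfsg.Agent.Helper9.TitsM
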