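import Mathlib
import Cfsg.Agent.Lib.Helper9.TitsM.Defs
import Cfsg.Agent.Lib.Helper9.TitsDerived

set_option autoImplicit false
set_option maxRecDepth 1000000

/-! The presented group of `TitsM.Defs` maps onto the presented Tits group of `TitsSimple`. -/

namespace Cfsg.Agent.Helper9.TitsM

open Cfsg Cfsg.Lie Cfsg.Agent.Helper9 Cfsg.Agent.Helper9.TC2 Cfsg.Agent.Helper9.TCData Cfsg.Spor
  Cfsg.Agent.Helper9.Stem3 Cfsg.Agent.Helper9.TitsBM Cfsg.Agent.Helper9.TitsSimple

/-- The generators among those of the presented Tits group. -/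
def emb : Fin 3 → Fin 4 := ![0, 1, 2]

theorem rel_extraG : ∀ r ∈ pres.extraG, TitsMat.FT.ev (FreeGroup.map emb r).toWord = one := by
  decide +kernel

theorem lift_comp_map {K : Type*} [Group K] (g : Fin 4 → K) (r : FG) :
    FreeGroup.lift (fun i => g (emb i)) r = FreeGroup.lift g (FreeGroup.map emb r) := by
  have h : FreeGroup.lift (fun i => g (emb i)) = (FreeGroup.lift g).comp (FreeGroup.map emb) := by
    apply FreeGroup.ext_hom
    intro i
    rw [MonoidHom.comp_apply, FreeGroup.lift_apply_of, FreeGroup.map.of, FreeGroup.lift_apply_of]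
  rw [h]
  rfl

theorem relsG_FT : ∀ r ∈ pres.relsG, FreeGroup.lift (fun i => TitsMat.FT.unit (emb i)) r = 1 := by
  intro r hr
  rw [lift_comp_map]
  exact TitsMat.FT.lift_eq_one _ (rel_extraG r (relsG_cases hr))

theorem relsG_PT : ∀ r ∈ pres.relsG,
    FreeGroup.lift (fun i => (PresentedGroup.of (emb i) : PT)) r = 1 := by
  intro r hr
  apply TitsMat.theta_inj
  rw [map_one]
  apply Subtype.ext
  show TitsMat.theta0 (FreeGroup.lift (fun i => (PresentedGroup.of (emb i) : PT)) r) = 1
  have h : TitsMat.theta0.comp (FreeGroup.lift (fun i => (PresentedGroup.of (emb i) : PT))) =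
      FreeGroup.lift (fun i => TitsMat.FT.unit (emb i)) := by
    apply FreeGroup.ext_hom
    intro i
    rw [MonoidHom.comp_apply, FreeGroup.lift_apply_of, FreeGroup.lift_apply_of, TitsMat.theta0_of]
  have h2 := DFunLike.congr_fun h r
  rw [MonoidHom.comp_apply] at h2
  rw [h2]
  exact relsG_FT r hr

/-- The map to the presented Tits group. -/
noncomputable def f : pres.PS →* PT := PresentedGroup.toGroup relsG_PT

theorem f_of (i : Fin 3) : f (PresentedGroup.of i) = PresentedGroup.of (emb i) :=
  PresentedGroup.toGroup.of relsG_PT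

theorem f_mk (r : FG) : f (PresentedGroup.mk pres.relsG r) =
    PresentedGroup.mk (relSet TitsTB.edges TitsTB.extra) (FreeGroup.map emb r) := by
  have h : f.comp (PresentedGroup.mk pres.relsG) =
      (PresentedGroup.mk (relSet TitsTB.edges TitsTB.extra)).comp (FreeGroup.map emb) := by
    apply FreeGroup.ext_hom
    intro i
    rw [MonoidHom.comp_apply, MonoidHom.comp_apply, FreeGroup.map.of]
    exact f_of i
  exact DFunLike.congr_fun h r

/-- The fourth generator of the presented Tits group as a word in the first two. -/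
def wd : FG :=
  b * a * b * a * b * a * b * a * b⁻¹ * a * b * a * b * a * b⁻¹ * a * b * a * b * a * b⁻¹ * a *
  b * a * b * a * b⁻¹ * a * b * a * b * a * b⁻¹ * a * b * a * b * a * b⁻¹ * b⁻¹ * a * b⁻¹

theorem wd_mem : (FreeGroup.of 3)⁻¹ * FreeGroup.map emb wd ∈ TitsTB.extra := by
  decide +kernel

theorem f_surjective : Function.Surjective f := by
  rw [← MonoidHom.range_eq_top, eq_top_iff, ← PresentedGroup.closure_range_of,
    Subgroup.closure_le]
  rintro _ ⟨i, rfl⟩
  fin_cases i
  · exact ⟨PresentedGroup.of 0, f_of 0⟩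
  · exact ⟨PresentedGroup.of 1, f_of 1⟩
  · exact ⟨PresentedGroup.of 2, f_of 2⟩
  · refine ⟨PresentedGroup.mk pres.relsG wd, ?_⟩
    rw [f_mk]
    have h := PresentedGroup.one_of_mem (rels := relSet TitsTB.edges TitsTB.extra)
      (Or.inr wd_mem)
    rw [map_mul, map_inv] at h
    have h2 := eq_of_inv_mul_eq_one h
    exact h2.symm

theorem neq_V : neqB (TitsMat.FT.g 2) one = true := by decide +kernel

theorem unit_ne_one : TitsMat.FT.unit 2 ≠ 1 := by
  intro h
  have h1 := congrArg Units.val h
  rw [Fam.unit_val] at h1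
  apply toMat_ne_of_neqB _ _ neq_V
  rw [h1, toMat_one]
  rfl

theorem f_v_ne_one : f (PresentedGroup.of 2) ≠ 1 := by
  intro h
  rw [f_of] at h
  have h1 : TitsMat.theta0 (PresentedGroup.of (emb 2)) = 1 := by rw [h, map_one]
  rw [TitsMat.theta0_of] at h1
  exact unit_ne_one h1

/-- The presented Tits group and the derived subgroup of `²F₄(2)`. -/
noncomputable def isoPT : PT ≃* Cfsg.Lie.TitsGroup :=
  (MonoidHom.ofInjective TitsMat.theta_inj).trans
    (MulEquiv.subgroupCongr TitsDerived.commutator_eq.symm)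

end Cfsg.Agent.Helper9.TitsM
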