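import Mathlib
import Cfsg.Agent.Lib.Helper9.TitsM.Hub
import Cfsg.Agent.Lib.Helper9.TitsM.Model

set_option autoImplicit false
set_option maxRecDepth 1000000

/-! The presented group of `TitsM.Defs` is the Tits group. -/

namespace Cfsg.Agent.Helper9.TitsM

open Cfsg Cfsg.Lie Cfsg.Agent.Helper9 Cfsg.Agent.Helper9.TC2 Cfsg.Agent.Helper9.TCData Cfsg.Spor
  Cfsg.Agent.Helper9.Stem3 Cfsg.Agent.Helper9.TitsSimple

theorem f_bijective : Function.Bijective f := by
  have : Finite pres.PS := hub.1
  rw [Nat.bijective_iff_surjective_and_card]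
  refine ⟨f_surjective, le_antisymm ?_ ?_⟩
  · rw [tits_simple.2]
    exact hub.2
  · exact Nat.card_le_card_of_surjective f f_surjective

/-- The isomorphism with the Tits group. -/
noncomputable def isoPS : pres.PS ≃* Cfsg.Lie.TitsGroup :=
  (MulEquiv.ofBijective f f_bijective).trans isoPT

theorem card_TitsGroup : Nat.card Cfsg.Lie.TitsGroup = 17971200 :=
  TitsDerived.card_commutator

theorem nu_v_ne_one : nu pres (PresentedGroup.of 2) ≠ 1 := by
  rw [nu_of]
  intro h
  exact f_v_ne_one (by rw [h, map_one])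

end Cfsg.Agent.Helper9.TitsM
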