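import Mathlib
import Cfsg.Agent.Lib.Helper9.TitsM.Iso
import Cfsg.Agent.Lib.Helper9.TCData.TTP0.Comb

set_option autoImplicit false
set_option maxRecDepth 1000000

/-! The kernel of the covering group of the Tits group is trivial: relations among the central
generators from the labelled coset table. -/

namespace Cfsg.Agent.Helper9.TitsM

open Cfsg Cfsg.Agent.Helper9 Cfsg.Agent.Helper9.TC2 Cfsg.Agent.Helper9.TCData
  Cfsg.Spor Cfsg.Agent.Helper9.LTC Cfsg.Agent.Helper9.LTCM Cfsg.Agent.Helper9.LTCP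
  Cfsg.Agent.Helper9.Stem3
open scoped IsMulCommutative

/-- The columns in the covering group. -/
noncomputable def eC : ℕ → pres.PC := eCol [] pres.extraC cols

/-- The subgroup of the covering group. -/
abbrev H : Subgroup pres.PC := coxH [] pres.extraC {s | s ∈ [v]}

/-- The image of the third generator. -/
noncomputable def vbar : pres.PC := PresentedGroup.of 2

theorem H_eq : H = Subgroup.zpowers vbar := by
  have hS : ({s | s ∈ [v]} : Set FG) = {v} := by
    ext s
    simp
  unfold H coxH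
  rw [hS, ← Subgroup.zpowers_eq_closure, MonoidHom.map_zpowers]
  rfl

theorem vbar_pow : vbar ^ 13 = 1 := of_two_pow

theorem nu_vbar_ne : nu pres vbar ≠ 1 := nu_v_ne_one

theorem orderOf_nu_vbar : orderOf (nu pres vbar) = 13 := by
  have : Fact (Nat.Prime 13) := ⟨by norm_num⟩
  apply orderOf_eq_prime _ nu_vbar_ne
  rw [← map_pow, vbar_pow, map_one]

theorem orderOf_vbar : orderOf vbar = 13 := by
  have : Fact (Nat.Prime 13) := ⟨by norm_num⟩
  apply orderOf_eq_prime vbar_pow
  intro h
  exact nu_vbar_ne (by rw [h, map_one])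

/-- An element of the subgroup generated by the third generator that lies in the kernel is
trivial. -/
theorem zpowers_inf_ker (g : pres.PC) (hg : g ∈ Subgroup.zpowers vbar) (hk : g ∈ (nu pres).ker) :
    g = 1 := by
  obtain ⟨k, rfl⟩ := hg
  rw [MonoidHom.mem_ker, map_zpow] at hk
  have h1 : (orderOf (nu pres vbar) : ℤ) ∣ k := orderOf_dvd_iff_zpow_eq_one.2 hk
  rw [orderOf_nu_vbar] at h1
  have h2 : (orderOf vbar : ℤ) ∣ k := by rw [orderOf_vbar]; exact h1
  exact orderOf_dvd_iff_zpow_eq_one.1 h2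

theorem Rl_getD_mem {j : ℕ} (h : j < 4) : pres.Rl.getD j 1 ∈ pres.Rl := by
  have hl : j < pres.Rl.length := h
  rw [List.getD_eq_getElem _ _ hl]
  exact List.getElem_mem hl

/-- The central elements. -/
noncomputable def zc (j : ℕ) : Subgroup.center pres.PC :=
  if h : j < 4 then ⟨z pres (pres.Rl.getD j 1), z_central (Rl_getD_mem h)⟩ else 1

theorem zc_lt {j : ℕ} (h : j < 4) : (zc j : pres.PC) = z pres (pres.Rl.getD j 1) := by
  unfold zc
  rw [dif_pos h]

theorem zc_pow (i : ℕ) : zc i ^ (480 : ℤ) = 1 := by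
  by_cases h : i < 4
  · apply Subtype.ext
    rw [Subgroup.coe_zpow, zc_lt h]
    have e : z pres (pres.Rl.getD i 1) ^ (480 : ℤ) = z pres (pres.Rl.getD i 1) ^ (480 : ℕ) :=
      zpow_natCast _ 480
    rw [e]
    exact z_pow (Rl_getD_mem h)
  · unfold zc
    rw [dif_neg h, one_zpow]

theorem zc_mem (j : ℕ) : (zc j : pres.PC) ∈ Z pres := by
  by_cases h : j < 4
  · rw [zc_lt h]
    exact Subgroup.subset_closure ⟨_, Rl_getD_mem h, rfl⟩
  · unfold zc
    rw [dif_neg h]
    exact (Z pres).one_mem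

theorem zeta_mem (f : ℕ → ℤ) : (zeta zc 4 f : pres.PC) ∈ Z pres := by
  have h : zeta zc 4 f ∈ (Z pres).comap (Subgroup.center pres.PC).subtype := by
    unfold zeta
    apply Subgroup.prod_mem
    intro i _
    apply Subgroup.zpow_mem
    exact zc_mem i
  exact h

/-! ### The relators -/

theorem hrelW' : TTP0.relWords = [v ^ 13, v⁻¹ * a * b, X, a ^ 2, b ^ 3, R0, R48].map
    (colWord cols) := by
  rw [hrelW, extraG_eq]

theorem prod_eC (r : FG) :
    ((colWord cols r).map eC).prod = PresentedGroup.mk pres.relsC r :=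
  prod_colWord_eCol colsOK r

theorem hrel_one {r : FG} (hr : r ∈ pres.extraC) :
    ((colWord cols r).map eC).prod = (zeta zc 4 (vec []) : pres.PC) := by
  rw [prod_eC, PresentedGroup.one_of_mem (mem_relsC hr), vec_nil, zeta_zero]
  rfl

theorem hrel_z (j : ℕ) (hj : j < 4) (R : FG) (hR : pres.Rl.getD j 1 = R) :
    ((colWord cols R).map eC).prod = (zeta zc 4 (vec (unitV j)) : pres.PC) := by
  rw [prod_eC, vec_unitV, zeta_single _ _ hj, zc_lt hj, hR]
  rfl

theorem hrel (j : ℕ) : ((TTP0.relWords.getD j []).map eC).prod =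
    (zeta zc TTP0.tab.d (vec (TTP0.relLabs.getD j [])) : pres.PC) := by
  rw [hrelW', hrelL]
  by_cases hj : j < 7
  · interval_cases j
    · exact hrel_one v13_mem
    · exact hrel_one vab_mem
    · exact hrel_one X_mem
    · exact hrel_z 0 (by norm_num) (a ^ 2) rfl
    · exact hrel_z 1 (by norm_num) (b ^ 3) rfl
    · exact hrel_z 2 (by norm_num) R0 rfl
    · exact hrel_z 3 (by norm_num) R48 rfl
  · rw [List.getD_eq_default _ _ (by simp; omega), List.getD_eq_default _ _ (by simp; omega),
      vec_nil, zeta_zero]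
    rfl

theorem v_mem_H : eC 4 ∈ H := by
  have hl : 4 < cols.length := by decide
  rw [eC, eCol_of_lt hl]
  exact Subgroup.mem_map_of_mem _ (Subgroup.subset_closure (by simp [cols, v]; rfl))

/-- The interpretation of the labelled table. -/
noncomputable def interp : LInterp H TTP0.tab where
  e := eC
  zc := zc
  e_inv := by
    intro c hc
    have hl : c < cols.length := hc
    rw [inv_eq c hc, eC, eCol_invCol colsOK hl, mul_inv_cancel]
  rot_ok := rot_ok_of_chkP TTP0.tab eC zc TTP0.relWords TTP0.relLabs TTP0.rotSrc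
    TTP0.rot_src hrel
  hcols_ok := by
    intro c hc
    have hc2 : c = 4 := by simpa [TTP0.tab, TTP0.ptab, LTCP.PTab.toLTab] using hc
    subst hc2
    exact v_mem_H
  free_ok := by
    intro i hi
    exact absurd hi (by show ¬ (4 + i < 4); omega)

theorem zeta_rho : ∀ ρ ∈ TTP0.rhos, zeta zc 4 (vec ρ) = 1 := by
  intro ρ hρ
  obtain ⟨i, s, hs, h⟩ := TTP0.rel_all ρ hρ
  have h1 : (zeta zc 4 (vec ρ) : pres.PC) ∈ H :=
    relVecM_sound interp zc_pow TTP0.h0 TTP0.hE hs h
  have h2 : (zeta zc 4 (vec ρ) : pres.PC) ∈ Z pres := zeta_mem _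
  apply Subtype.ext
  rw [H_eq] at h1
  rw [← ker_eq] at h2
  exact zpowers_inf_ker _ h1 h2

/-! ### The central generators are trivial -/

theorem zeta_tgt {i : ℕ} (hi : i < 4) : zeta zc 4 (vec (TTP0.tgts.getD i [])) = 1 := by
  have h := zeta_vcomb zc 4 (TTP0.combs.getD i []) TTP0.rhos zeta_rho
  rwa [zeta_of_veqM zc 4 zc_pow (TTP0.comb_ok i hi)] at h

theorem zeta_unit {j : ℕ} (hj : j < 4) :
    (zeta zc 4 (vec (unitV j)) : pres.PC) = z pres (pres.Rl.getD j 1) := by
  rw [vec_unitV, zeta_single _ _ hj, zc_lt hj]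

theorem z_eq_one_of {j : ℕ} (hj : j < 4) (h : TTP0.tgts.getD j [] = unitV j) :
    z pres (pres.Rl.getD j 1) = 1 := by
  have h1 := zeta_tgt hj
  rw [h] at h1
  rw [← zeta_unit hj, h1]
  rfl

theorem z_eq_one {R : FG} (hR : R ∈ pres.Rl) : z pres R = 1 := by
  rcases Rl_cases hR with rfl | rfl | rfl | rfl
  · exact z_eq_one_of (j := 0) (by norm_num) rfl
  · exact z_eq_one_of (j := 1) (by norm_num) rfl
  · exact z_eq_one_of (j := 2) (by norm_num) rfl
  · exact z_eq_one_of (j := 3) (by norm_num) rfl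

theorem Z_eq_bot : Z pres = ⊥ := by
  rw [eq_bot_iff, Z, Subgroup.closure_le]
  rintro _ ⟨R, hR, rfl⟩
  rw [z_eq_one hR]
  exact Subgroup.one_mem _

theorem ker_eq_bot : (nu pres).ker = ⊥ := by
  rw [ker_eq, Z_eq_bot]

theorem nu_injective : Function.Injective (nu pres) :=
  (MonoidHom.ker_eq_bot_iff _).1 ker_eq_bot

instance finite_PC : Finite pres.PC := by
  have : Finite pres.PS := hub.1
  exact Finite.of_injective _ nu_injective

end Cfsg.Agent.Helper9.TitsM
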